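import Groth.Agent.RB92.Lift
import Groth.Agent.Lib.Kaehler.Seq

/-!
# Morphisms of ribbons and their cotangent sequences
-/

set_option autoImplicit false

noncomputable section

universe u

open CategoryTheory CategoryTheory.Limits AlgebraicGeometry TopologicalSpace Opposite OmegaSh
open Groth.Agent.Lib.SqZeroLift Groth.Agent.Lib.Kaehler.Basic

namespace Groth.Agent.RB92

variable {D C C' S : Scheme.{u}} (i : D ⟶ C) [hsq : Thick.SqZero i] {pC : C ⟶ S}
  {Ω₁ : C.Modules} {d₁ : Der pC Ω₁} (i' : D ⟶ C') [Thick.SqZero i'] {pC' : C' ⟶ S}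
  {Ω₁' : C'.Modules} {d₁' : Der pC' Ω₁'}

/-- The differential of a global function, pulled back. -/
theorem dR_pull (V : C.Opens) (a : Γ(C, V)) :
    dR i d₁ (i ⁻¹ᵁ V) ((C.presheaf.map (homOfLE (Thick.img_preimage i V).le).op).hom a) =
      pullSect i Ω₁ V (d₁.app V a) := by
  rw [dR_def]
  erw [der_app_map d₁ (Thick.img_preimage i V).le a, pullSect_res]
  exact (Thick.res_res _ _ _ _).trans (Thick.res_self _ _ _)

lemma appLE_of_eq_id {f : C ⟶ C} (h : f = 𝟙 C) (V W : C.Opens) (e : W ≤ f ⁻¹ᵁ V) (e' : W ≤ V) :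
    f.appLE V W e = C.presheaf.map (homOfLE e').op := by
  subst h
  simp [Scheme.Hom.appLE]
  exact Category.id_comp _

/-- A morphism over `D` with inverse gives mutually inverse maps. -/
theorem s_comp_eq_id (hd₁ : IsUniversal d₁) {g : C ⟶ C'} {g' : C' ⟶ C} (hgg : g ≫ g' = 𝟙 C)
    (hg : i ≫ g = i') (hg' : i' ≫ g' = i)
    {s : E i' Ω₁' ⟶ E i Ω₁} (hs : Compat i d₁ d₁' g s) {s' : E i Ω₁ ⟶ E i' Ω₁'} (hs' : Compat i' d₁' d₁ g' s') :
    s' ≫ s = 𝟙 _ := by
  refine pull_hom_ext hd₁ fun V a => ?_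
  rw [← dR_pull i V a]
  show s.app _ (s'.app _ _) = _
  rw [s_dR i' i hs' _ (img_le_of_eq i' hg' (Thick.preimage_img i (i ⁻¹ᵁ V)).ge),
    s_dR i i' hs _ (img_le_of_eq i hg (Thick.preimage_img i' (i ⁻¹ᵁ V)).ge)]
  refine congrArg (dR i d₁ _) ?_
  rw [← CommRingCat.comp_apply, Scheme.Hom.appLE_comp_appLE, appLE_of_eq_id hgg _ _ _ le_rfl,
    Subsingleton.elim (homOfLE _) (𝟙 (Thick.img i (i ⁻¹ᵁ V))), op_id, CategoryTheory.Functor.map_id]
  rfl

/-- Morphisms over `D` inducing mutually inverse maps are mutually inverse. -/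
theorem hom_comp_eq_id {φ : Omega.conormal i ⟶ E i Ω₁} (hφ : IsConormalDiff i d₁ φ) [Mono φ]
    {g : C ⟶ C'} {g' : C' ⟶ C} (hg : i ≫ g = i') (hg' : i' ≫ g' = i)
    (hgp : g ≫ pC' = pC) (hgp' : g' ≫ pC = pC')
    {s : E i' Ω₁' ⟶ E i Ω₁} (hs : Compat i d₁ d₁' g s) {s' : E i Ω₁ ⟶ E i' Ω₁'} (hs' : Compat i' d₁' d₁ g' s')
    (hss : s' ≫ s = 𝟙 _) : g ≫ g' = 𝟙 C := by
  refine hom_ext_dR (f := i) i hφ (by rw [← Category.assoc, hg, hg']) (Category.comp_id _)
    (by rw [Category.assoc, hgp', hgp]) (Category.id_comp _) fun V a U e e' hU => ?_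
  have e₁ : Thick.img i' U ≤ g' ⁻¹ᵁ Thick.img i U := img_le_of_eq i' hg' (Thick.preimage_img i U).ge
  have e₂ : Thick.img i U ≤ g ⁻¹ᵁ Thick.img i' U := img_le_of_eq i hg (Thick.preimage_img i' U).ge
  have e₀ : Thick.img i U ≤ V := (Thick.img_le_iff i).2 hU
  have key : dR i d₁ U ((g.appLE (Thick.img i' U) (Thick.img i U) e₂).hom
      ((g'.appLE (Thick.img i U) (Thick.img i' U) e₁).hom ((C.presheaf.map (homOfLE e₀).op).hom a))) =
      dR i d₁ U ((C.presheaf.map (homOfLE e₀).op).hom a) := by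
    rw [← s_dR i i' hs U e₂, ← s_dR i' i hs' U e₁]
    exact congr($(hss).app U _)
  refine Eq.trans ?_ (key.trans ?_) <;> refine congrArg (dR i d₁ U) ?_
  · simp only [← CommRingCat.comp_apply, Scheme.Hom.appLE_comp_appLE, Scheme.Hom.map_appLE]
  · simp only [Scheme.Hom.appLE, Scheme.Hom.id_app]
    rfl

/-- The section of the structure sheaf underlying a conormal section. -/
theorem incl_conormalSect (V : C.Opens) (n : Γ(ClSub.idealMod i.ker, V)) :
    Thick.incl i V (conormalSect i V n) = idealSect i.ker V n :=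
  congrArg (idealSect i.ker V) (congr($(IsIso.hom_inv_id (Thick.unitHom i)).app V n))

theorem μ_conormalSect (V : C.Opens) (n : Γ(ClSub.idealMod i.ker, V)) :
    Thick.μ i (i ⁻¹ᵁ V) (conormalSect i V n) =
      (C.presheaf.map (homOfLE (Thick.img_preimage i V).le).op).hom (idealSect i.ker V n) := by
  rw [← incl_conormalSect, ← Thick.incl_res]
  rfl

theorem app_idealSect_eq_zero (V : C.Opens) (n : Γ(ClSub.idealMod i.ker, V)) :
    (i.app V).hom (idealSect i.ker V n) = 0 := by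
  have h := Thick.red_μ i (i ⁻¹ᵁ V) (conormalSect i V n)
  rw [μ_conormalSect, Thick.red, ← CommRingCat.comp_apply, Scheme.Hom.map_appLE,
    ← Scheme.Hom.app_eq_appLE] at h
  exact h

variable {φ : Omega.conormal i ⟶ E i Ω₁} (hφ : IsConormalDiff i d₁ φ)
  {φ' : Omega.conormal i' ⟶ E i' Ω₁'} (hφ' : IsConormalDiff i' d₁' φ')

include hφ hφ' in
/-- The conormal map of a morphism and its differential commute. -/
theorem conormal_comm {g : C ⟶ C'} (hg : i ≫ g = i')
    {s : E i' Ω₁' ⟶ E i Ω₁} (hs : Compat i d₁ d₁' g s)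
    (α : (Scheme.Modules.pullback (𝟙 D)).obj (Omega.conormal i') ⟶ Omega.conormal i)
    (hα : IsConormalMap i i' g (𝟙 D) α) :
    φ' ≫ s = ((Scheme.Modules.pullbackId D).inv.app (Omega.conormal i') ≫ α) ≫ φ := by
  apply ((Scheme.Modules.pullbackPushforwardAdjunction i').homEquiv _ _).injective
  ext V n
  simp only [Adjunction.homEquiv_unit]
  let U : D.Opens := i' ⁻¹ᵁ V
  have hU : U ≤ i ⁻¹ᵁ g ⁻¹ᵁ V := by
    show i' ⁻¹ᵁ V ≤ _
    rw [← Scheme.Hom.comp_preimage, hg]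
  have hU' : i ⁻¹ᵁ g ⁻¹ᵁ V ≤ U := by
    show _ ≤ i' ⁻¹ᵁ V
    rw [← Scheme.Hom.comp_preimage, hg]
  have e : Thick.img i U ≤ g ⁻¹ᵁ V := (Thick.img_le_iff i).2 hU
  have e' : g ⁻¹ᵁ V ≤ Thick.img i U := (Thick.img_preimage i _).ge.trans (Thick.img_mono i hU')
  let a := idealSect i'.ker V n
  let r : Thick.R i U := (g.appLE V (Thick.img i U) e).hom a
  obtain ⟨m, hm⟩ := Thick.exists_μ i U r (by
    rw [red_appLE i hg V U e le_rfl, ← Scheme.Hom.app_eq_appLE, app_idealSect_eq_zero i'])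
  let s₀ : Γ(ClSub.idealMod i.ker, g ⁻¹ᵁ V) :=
    (inv (Thick.unitHom i)).app (g ⁻¹ᵁ V) ((Omega.conormal i).presheaf.map (homOfLE hU').op m)
  have hs₀ : idealSect i.ker (g ⁻¹ᵁ V) s₀ = g.app V a := by
    have h1 := Thick.incl_res i e' ((Omega.conormal i).presheaf.map (homOfLE (Thick.preimage_img i U).le).op m)
    rw [Thick.res_res] at h1
    refine h1.trans ((congrArg (C.presheaf.map (homOfLE e').op).hom hm).trans ?_)
    show (C.presheaf.map _).hom ((g.appLE V _ _).hom a) = _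
    rw [← CommRingCat.comp_apply, Scheme.Hom.appLE_map, ← Scheme.Hom.app_eq_appLE]
  have h1 := hα.2 V n s₀ hs₀ U le_rfl hU
  have h2 : conormalSect i (g ⁻¹ᵁ V) s₀ = (Omega.conormal i).presheaf.map (homOfLE hU').op m :=
    congr($(IsIso.inv_hom_id (Thick.unitHom i)).app (g ⁻¹ᵁ V) _)
  have h5 := (Thick.res_self (Omega.conormal i) _ _).symm.trans (h1.trans
    ((congrArg ((Omega.conormal i).presheaf.map (homOfLE hU).op) h2).trans
      ((Thick.res_res (Omega.conormal i) _ _ m).trans (Thick.res_self (Omega.conormal i) _ m))))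
  have h3 : ((Scheme.Modules.pullbackId D).inv.app (Omega.conormal i') ≫ α).app U (conormalSect i' V n) = m := by
    refine Eq.trans ?_ h5
    exact congrArg (α.app U) (Groth.Agent.Lib.Kaehler.Seq.pullbackId_inv_app (Omega.conormal i') U _)
  show s.app U (φ'.app U (conormalSect i' V n)) =
    φ.app U (((Scheme.Modules.pullbackId D).inv.app (Omega.conormal i') ≫ α).app U (conormalSect i' V n))
  rw [h3, hφ', ← dR_μ i hφ, hm, hs V a U le_rfl e, Thick.res_self]

end Groth.Agent.RB92
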