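import Groth.Agent.RB92.Pair

/-!
# Morphisms out of a ribbon and maps of restricted cotangent sheaves
-/

set_option autoImplicit false

noncomputable section

universe u

open CategoryTheory CategoryTheory.Limits AlgebraicGeometry TopologicalSpace Opposite OmegaSh
open Groth.Agent.Lib.SqZeroLift Groth.Agent.Lib.Kaehler.Basic

namespace Groth.Agent.RB92

variable {D C X S : Scheme.{u}} (i : D ⟶ C) [hsq : Thick.SqZero i] {pC : C ⟶ S}
  {Ω₁ : C.Modules} (d₁ : Der pC Ω₁) {pX : X ⟶ S} {f : D ⟶ X} {Ω₃ : X.Modules} (d₃ : Der pX Ω₃)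

/-- The morphism `g` induces the map `s`. -/
def Compat (g : C ⟶ X) (s : (Scheme.Modules.pullback f).obj Ω₃ ⟶ E i Ω₁) : Prop :=
  ∀ (V : X.Opens) (a : Γ(X, V)) (U : D.Opens) (hU : U ≤ f ⁻¹ᵁ V) (e : Thick.img i U ≤ g ⁻¹ᵁ V),
    dR i d₁ U ((g.appLE V (Thick.img i U) e).hom a) =
      (E i Ω₁).presheaf.map (homOfLE hU).op (s.app (f ⁻¹ᵁ V) (pullSect f Ω₃ V (d₃.app V a)))

variable {d₁ d₃}

lemma img_le_of_eq {g : C ⟶ X} (hg : i ≫ g = f) {V : X.Opens} {U : D.Opens} (hU : U ≤ f ⁻¹ᵁ V) :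
    Thick.img i U ≤ g ⁻¹ᵁ V := by
  rw [Thick.img_le_iff, ← Scheme.Hom.comp_preimage, hg]
  exact hU

lemma red_appLE {g : C ⟶ X} (hg : i ≫ g = f) (V : X.Opens) (U : D.Opens) (e : Thick.img i U ≤ g ⁻¹ᵁ V)
    (hU : U ≤ f ⁻¹ᵁ V) (a : Γ(X, V)) :
    Thick.red i U ((g.appLE V (Thick.img i U) e).hom a) = (f.appLE V U hU).hom a := by
  subst hg
  rw [Thick.red, ← CommRingCat.comp_apply, Scheme.Hom.appLE_comp_appLE]

/-- Maps out of a pullback of a universal module are determined on differentials. -/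
theorem pull_hom_ext (hd₃ : IsUniversal d₃) {M : D.Modules} {α β : (Scheme.Modules.pullback f).obj Ω₃ ⟶ M}
    (h : ∀ (V : X.Opens) (a : Γ(X, V)),
      α.app (f ⁻¹ᵁ V) (pullSect f Ω₃ V (d₃.app V a)) = β.app (f ⁻¹ᵁ V) (pullSect f Ω₃ V (d₃.app V a))) :
    α = β := by
  apply ((Scheme.Modules.pullbackPushforwardAdjunction f).homEquiv Ω₃ M).injective
  refine universal_hom_ext hd₃ fun V a => ?_
  rw [Adjunction.homEquiv_unit, Adjunction.homEquiv_unit]
  exact h V a

/-- A morphism gives a map of differentials. -/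
theorem exists_map {g : C ⟶ X} (hg : i ≫ g = f) (hgp : g ≫ pX = pC) (hd₃ : IsUniversal d₃) :
    ∃ s : (Scheme.Modules.pullback f).obj Ω₃ ⟶ E i Ω₁, Compat i d₁ d₃ g s := by
  let val : ∀ V : X.Opens, Γ(X, V) →+ Γ(E i Ω₁, f ⁻¹ᵁ V) := fun V =>
    (dR i d₁ (f ⁻¹ᵁ V)).comp
      (g.appLE V (Thick.img i (f ⁻¹ᵁ V)) (img_le_of_eq i hg le_rfl)).hom.toAddMonoidHom
  have hred : ∀ (V : X.Opens) (a : Γ(X, V)),
      Thick.red i _ ((g.appLE V (Thick.img i (f ⁻¹ᵁ V)) (img_le_of_eq i hg le_rfl)).hom a) = (f.app V).hom a :=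
    fun V a => by rw [red_appLE i hg V _ _ le_rfl, Scheme.Hom.app_eq_appLE]
  let δ : Der pX ((Scheme.Modules.pushforward f).obj (E i Ω₁)) := derMk val
    (fun V a b => by
      refine (congrArg (dR i d₁ (f ⁻¹ᵁ V))
        (map_mul (g.appLE V (Thick.img i (f ⁻¹ᵁ V)) (img_le_of_eq i hg le_rfl)).hom a b)).trans ?_
      rw [dR_mul, hred, hred]
      rfl)
    (fun V W e a => by
      show dR i d₁ _ ((g.appLE W _ _).hom _) = (E i Ω₁).presheaf.map (homOfLE (f.preimage_mono e)).op (dR i d₁ _ _)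
      rw [← dR_res]
      refine congrArg (dR i d₁ _) ?_
      show _ = (C.presheaf.map _).hom ((g.appLE V _ _).hom a)
      simp only [Thick.rres, ← CommRingCat.comp_apply, Scheme.Hom.map_appLE, Scheme.Hom.appLE_map])
    (fun V c => by
      show dR i d₁ _ ((g.appLE _ _ _).hom ((pX.app V).hom c)) = 0
      rw [← CommRingCat.comp_apply, Scheme.Hom.app_eq_appLE, Scheme.Hom.appLE_comp_appLE]
      simp only [hgp]
      exact dR_base i d₁ _ V _ c)
  let α := univDesc hd₃ δ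
  refine ⟨((Scheme.Modules.pullbackPushforwardAdjunction f).homEquiv Ω₃ (E i Ω₁)).symm α, fun V a U hU e => ?_⟩
  have h1 := univDesc_app hd₃ δ V a
  have h2 : (((Scheme.Modules.pullbackPushforwardAdjunction f).homEquiv Ω₃ (E i Ω₁)).symm α).app (f ⁻¹ᵁ V)
      (pullSect f Ω₃ V (d₃.app V a)) = α.app V (d₃.app V a) := by
    conv_rhs => rw [← ((Scheme.Modules.pullbackPushforwardAdjunction f).homEquiv Ω₃ (E i Ω₁)).apply_symm_apply α,
      Adjunction.homEquiv_unit]
    rfl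
  rw [h2, h1]
  show _ = (E i Ω₁).presheaf.map (homOfLE hU).op (dR i d₁ _ ((g.appLE V _ _).hom a))
  rw [← dR_res]
  refine congrArg (dR i d₁ _) ?_
  simp only [Thick.rres, ← CommRingCat.comp_apply, Scheme.Hom.appLE_map]

variable {pD : D ⟶ S} {Ω₂ : D.Modules} {d₂ : Der pD Ω₂} {c : E i Ω₁ ⟶ Ω₂} (hc : IsDiffCompat i d₁ d₂ c)
  {df : (Scheme.Modules.pullback f).obj Ω₃ ⟶ Ω₂} (hdf : IsDiffCompat f d₃ d₂ df)

include hc hdf in
theorem comp_eq_of_compat {g : C ⟶ X} (hg : i ≫ g = f) (hd₃ : IsUniversal d₃)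
    {s : (Scheme.Modules.pullback f).obj Ω₃ ⟶ E i Ω₁} (hs : Compat i d₁ d₃ g s) : s ≫ c = df := by
  refine pull_hom_ext hd₃ fun V a => ?_
  have e := hs V a (f ⁻¹ᵁ V) le_rfl (img_le_of_eq i hg le_rfl)
  rw [Thick.res_self] at e
  show c.app _ (s.app _ _) = _
  rw [← e, c_dR i hc, hdf, red_appLE i hg V _ _ le_rfl, Scheme.Hom.app_eq_appLE]

variable {φ : Omega.conormal i ⟶ E i Ω₁} (hφ : IsConormalDiff i d₁ φ)

include hc hdf hφ in
theorem exists_hom {hw : φ ≫ c = 0} (hS : (ShortComplex.mk φ c hw).ShortExact) (hp : i ≫ pC = pD)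
    (hf : f ≫ pX = pD) {s : (Scheme.Modules.pullback f).obj Ω₃ ⟶ E i Ω₁} (hs : s ≫ c = df) :
    ∃ g : C ⟶ X, i ≫ g = f ∧ g ≫ pX = pC ∧ Compat i d₁ d₃ g s := by
  classical
  haveI : Mono φ := hS.mono_f
  have hg : f ≫ pX = i ≫ pC := hf.trans hp.symm
  let U : X.Opens → D.Opens := fun V => f ⁻¹ᵁ V ⊓ ⊤
  let sV : ∀ V : X.Opens, Γ(X, V) →+ Γ(E i Ω₁, U V) := fun V =>
    ((E i Ω₁).presheaf.map (homOfLE (inf_le_left : U V ≤ f ⁻¹ᵁ V)).op).hom.comp
      ((s.app (f ⁻¹ᵁ V)).hom.comp ((pullSect f Ω₃ V).hom.comp (d₃.app V)))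
  have hsV : ∀ V a, sV V a = (E i Ω₁).presheaf.map (homOfLE (inf_le_left : U V ≤ f ⁻¹ᵁ V)).op
      (s.app (f ⁻¹ᵁ V) (pullSect f Ω₃ V (d₃.app V a))) := fun _ _ => rfl
  have hcs : ∀ V a, c.app (U V) (sV V a) = d₂.app (U V) ((f.appLE V (U V) inf_le_left).hom a) := by
    intro V a
    rw [hsV]
    refine (congr($(c.mapPresheaf.naturality (homOfLE (inf_le_left : U V ≤ f ⁻¹ᵁ V)).op) _)).trans ?_
    show Ω₂.presheaf.map _ ((s ≫ c).app (f ⁻¹ᵁ V) (pullSect f Ω₃ V (d₃.app V a))) = _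
    rw [hs, hdf, ← der_app_map]
    rfl
  choose r hr₁ hr₂ using fun V a => pair_surjective i hφ hc hS (U V) _ (sV V a) (hcs V a)
  have hmul : ∀ V a b, sV V (a * b) = (f.appLE V (U V) inf_le_left).hom a • sV V b +
      (f.appLE V (U V) inf_le_left).hom b • sV V a := by
    intro V a b
    simp only [hsV, der_app_mul, map_add]
    have e : ∀ (r : Γ(X, V)) (m : Γ(Ω₃, V)),
        (E i Ω₁).presheaf.map (homOfLE (inf_le_left : U V ≤ f ⁻¹ᵁ V)).op
            (s.app (f ⁻¹ᵁ V) (pullSect f Ω₃ V (r • m))) =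
          (f.appLE V (U V) inf_le_left).hom r •
            (E i Ω₁).presheaf.map (homOfLE (inf_le_left : U V ≤ f ⁻¹ᵁ V)).op
              (s.app (f ⁻¹ᵁ V) (pullSect f Ω₃ V m)) := fun r m => by
      have h1 : pullSect f Ω₃ V (r • m) = (f.app V).hom r • pullSect f Ω₃ V m :=
        Scheme.Modules.Hom.app_smul ((Scheme.Modules.pullbackPushforwardAdjunction f).unit.app Ω₃) r m
      rw [h1, Scheme.Modules.Hom.app_smul, Scheme.Modules.map_smul]
      rfl
    rw [e, e]
  let L : Lift.L pC pX i f ⊤ :=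
    { φ := fun V =>
        { toFun := r V
          map_one' := pair_injective i hφ _ (by rw [hr₁, map_one, map_one]) (by
            rw [hr₂, dR_one, hsV, der_app_one, map_zero, map_zero, map_zero])
          map_mul' := fun a b => pair_injective i hφ _ (by rw [hr₁, map_mul, map_mul, hr₁, hr₁]) (by
            rw [hr₂, dR_mul, hr₁, hr₁, hr₂, hr₂, hmul])
          map_zero' := pair_injective i hφ _ (by rw [hr₁, map_zero, map_zero]) (by rw [hr₂, map_zero, map_zero])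
          map_add' := fun a b => pair_injective i hφ _ (by rw [hr₁, map_add, map_add, hr₁, hr₁]) (by
            rw [hr₂, map_add, map_add, hr₂, hr₂]) }
      res := fun {V V'} h a => pair_injective i hφ _ (by
          show Thick.red i _ (r V' _) = Thick.red i _ (Thick.rres i _ (r V a))
          rw [hr₁, Thick.red_rres, hr₁]
          simp only [← CommRingCat.comp_apply, Scheme.Hom.map_appLE, Scheme.Hom.appLE_map]) (by
          show dR i d₁ _ (r V' _) = dR i d₁ _ (Thick.rres i _ (r V a))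
          rw [hr₂, dR_res, hr₂, hsV, hsV]
          erw [der_app_map d₃ h a]
          have e1 : pullSect f Ω₃ V' (Ω₃.presheaf.map (homOfLE h).op (d₃.app V a)) =
              ((Scheme.Modules.pullback f).obj Ω₃).presheaf.map (homOfLE (f.preimage_mono h)).op
                (pullSect f Ω₃ V (d₃.app V a)) :=
            congr($((Scheme.Modules.Hom.mapPresheaf
              ((Scheme.Modules.pullbackPushforwardAdjunction f).unit.app Ω₃)).naturality (homOfLE h).op) _)
          have e2 := congr($(s.mapPresheaf.naturality (homOfLE (f.preimage_mono h)).op)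
            (pullSect f Ω₃ V (d₃.app V a)))
          erw [e1, e2]
          exact (Thick.res_res _ _ _ _).trans (Thick.res_res _ _ _ _).symm)
      red := fun V a => hr₁ V a
      base := fun V b h => pair_injective i hφ _ (by
          show Thick.red i _ (r _ _) = _
          rw [hr₁]
          simp only [Thick.red, ← CommRingCat.comp_apply, Scheme.Hom.app_eq_appLE, Scheme.Hom.appLE_comp_appLE]
          simp only [hg]
          rfl) (by
          show dR i d₁ _ (r _ _) = _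
          rw [hr₂, dR_base i d₁ _ V h, hsV, der_app_app, map_zero, map_zero, map_zero]) }
  refine ⟨Lift.toMor L, Lift.comp_toMor L, Lift.toMor_comp hg L, fun V a U' hU' e => ?_⟩
  have hle : (Lift.toMor L) ⁻¹ᵁ V ≤ Thick.img i (U V) := fun z hz => ⟨hz, trivial⟩
  have e1 : ((Lift.toMor L).appLE V (Thick.img i U') e).hom a =
      Thick.rres i (show U' ≤ U V from le_inf hU' le_top) (r V a) := by
    show ((C.presheaf.map (homOfLE e).op).hom (((Lift.toMor L).app V).hom a)) = _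
    rw [Lift.toMor_app L V hle]
    simp only [Thick.rres, ← CommRingCat.comp_apply, ← Functor.map_comp]
    rfl
  rw [e1, dR_res, hr₂, hsV]
  exact Thick.res_res _ _ _ _

include hφ in
/-- Morphisms agreeing on `D` and on differentials are equal. -/
theorem hom_ext_dR [Mono φ] {g g' : C ⟶ X} (hg : i ≫ g = f) (hg' : i ≫ g' = f) (hgp : g ≫ pX = pC)
    (hgp' : g' ≫ pX = pC)
    (h : ∀ (V : X.Opens) (a : Γ(X, V)) (U : D.Opens) (e : Thick.img i U ≤ g ⁻¹ᵁ V)
      (e' : Thick.img i U ≤ g' ⁻¹ᵁ V), U ≤ f ⁻¹ᵁ V →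
      dR i d₁ U ((g.appLE V (Thick.img i U) e).hom a) = dR i d₁ U ((g'.appLE V (Thick.img i U) e').hom a)) :
    g = g' :=
  Lift.hom_ext g g' hg hg' hgp hgp' fun V a => pair_injective i hφ _
    ((red_appLE i hg V _ _ inf_le_left a).trans (red_appLE i hg' V _ _ inf_le_left a).symm)
    (h V a _ _ _ inf_le_left)

section Two

variable {C' : Scheme.{u}} (i' : D ⟶ C') [Thick.SqZero i'] {pC' : C' ⟶ S} {Ω₁' : C'.Modules} {d₁' : Der pC' Ω₁'}

/-- The map attached to a morphism of thickenings, on pulled back differentials. -/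
theorem s_dR {g : C ⟶ C'} {s : E i' Ω₁' ⟶ E i Ω₁} (hs : Compat i d₁ d₁' g s) (U : D.Opens)
    (e : Thick.img i U ≤ g ⁻¹ᵁ Thick.img i' U) (r : Thick.R i' U) :
    s.app U (dR i' d₁' U r) = dR i d₁ U ((g.appLE (Thick.img i' U) (Thick.img i U) e).hom r) := by
  rw [hs (Thick.img i' U) r U (Thick.preimage_img i' U).ge e, dR_def]
  exact congr($(s.mapPresheaf.naturality (homOfLE (Thick.preimage_img i' U).ge).op) _)

variable {φ' : Omega.conormal i' ⟶ E i' Ω₁'} (hφ' : IsConormalDiff i' d₁' φ')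

include hφ hφ' in
theorem s_phi {g : C ⟶ C'} {s : E i' Ω₁' ⟶ E i Ω₁} (hs : Compat i d₁ d₁' g s) (U : D.Opens)
    (e : Thick.img i U ≤ g ⁻¹ᵁ Thick.img i' U) (m : Γ(Omega.conormal i', U)) (n : Γ(Omega.conormal i, U))
    (hn : Thick.μ i U n = (g.appLE (Thick.img i' U) (Thick.img i U) e).hom (Thick.μ i' U m)) :
    s.app U (φ'.app U m) = φ.app U n := by
  rw [← dR_μ i' hφ', s_dR i i' hs U e, ← hn, dR_μ i hφ]

end Two

end Groth.Agent.RB92
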