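import Groth.Agent.Lib.SqZeroLift.Lift
import Groth.Agent.Lib.CohDelta.FTLift
import Groth.Agent.Lib.Kaehler.Basic
import Groth.Agent.Lib.PushClosed.Torsion
import Groth.Prelude.Def_MultCurve

/-!
# A square zero thickening with short exact cotangent sequence is a fibre product
-/

set_option autoImplicit false

noncomputable section

universe u

open CategoryTheory CategoryTheory.Limits AlgebraicGeometry TopologicalSpace Opposite OmegaSh
open Groth.Agent.Lib.SqZeroLift Groth.Agent.Lib.Kaehler.Basic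

namespace Groth.Agent.RB92

theorem sqZero_of_isRibbon {D C : Scheme.{u}} {i : D ⟶ C} (hR : MultCurve.IsRibbon i) : Thick.SqZero i where
  isClosedImmersion := hR.1.1
  sq := by rw [← pow_two]; exact hR.1.2.1

variable {D C S : Scheme.{u}} (i : D ⟶ C) [hsq : Thick.SqZero i] {pC : C ⟶ S}
  {Ω₁ : C.Modules} (d₁ : Der pC Ω₁)

/-- The restricted cotangent sheaf. -/
abbrev E (i : D ⟶ C) (Ω₁ : C.Modules) : D.Modules := (Scheme.Modules.pullback i).obj Ω₁

/-- The pulled back differential. -/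
def dR (U : D.Opens) : Thick.R i U →+ Γ(E i Ω₁, U) :=
  ((E i Ω₁).presheaf.map (homOfLE (Thick.preimage_img i U).ge).op).hom.comp
    ((pullSect i Ω₁ (Thick.img i U)).hom.comp (d₁.app (Thick.img i U)))

lemma dR_def (U : D.Opens) (r : Thick.R i U) :
    dR i d₁ U r = (E i Ω₁).presheaf.map (homOfLE (Thick.preimage_img i U).ge).op
      (pullSect i Ω₁ (Thick.img i U) (d₁.app (Thick.img i U) r)) := rfl

lemma pullSect_smul (V : C.Opens) (a : Γ(C, V)) (m : Γ(Ω₁, V)) :
    pullSect i Ω₁ V (a • m) = (i.app V).hom a • pullSect i Ω₁ V m :=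
  Scheme.Modules.Hom.app_smul ((Scheme.Modules.pullbackPushforwardAdjunction i).unit.app Ω₁) a m

lemma pullSect_res {V W : C.Opens} (h : W ≤ V) (m : Γ(Ω₁, V)) :
    pullSect i Ω₁ W (Ω₁.presheaf.map (homOfLE h).op m) =
      (E i Ω₁).presheaf.map (homOfLE (i.preimage_mono h)).op (pullSect i Ω₁ V m) :=
  congr($((Scheme.Modules.Hom.mapPresheaf
    ((Scheme.Modules.pullbackPushforwardAdjunction i).unit.app Ω₁)).naturality (homOfLE h).op) m)

lemma dR_mul (U : D.Opens) (r s : Thick.R i U) :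
    dR i d₁ U (r * s) = Thick.red i U r • dR i d₁ U s + Thick.red i U s • dR i d₁ U r := by
  simp only [dR_def, der_app_mul, map_add, pullSect_smul, Scheme.Modules.map_smul]
  rfl

lemma dR_one (U : D.Opens) : dR i d₁ U 1 = 0 := by
  rw [dR_def, der_app_one, map_zero, map_zero]

lemma dR_base (U : D.Opens) (V : S.Opens) (h : Thick.img i U ≤ pC ⁻¹ᵁ V) (a : Γ(S, V)) :
    dR i d₁ U ((pC.appLE V (Thick.img i U) h).hom a) = 0 := by
  rw [dR_def, show d₁.app (Thick.img i U) ((pC.appLE V (Thick.img i U) h).hom a) = 0 from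
    der_app_appLE d₁ V _ h a, map_zero, map_zero]

lemma dR_res {U U' : D.Opens} (h : U' ≤ U) (r : Thick.R i U) :
    dR i d₁ U' (Thick.rres i h r) = (E i Ω₁).presheaf.map (homOfLE h).op (dR i d₁ U r) := by
  rw [dR_def, dR_def]
  erw [der_app_map d₁ (Thick.img_mono i h) r, pullSect_res]
  exact (Thick.res_res _ _ _ _).trans (Thick.res_res _ _ _ _).symm

variable {d₁} {φ : Omega.conormal i ⟶ E i Ω₁} (hφ : IsConormalDiff i d₁ φ)

include hφ in
lemma dR_μ (U : D.Opens) (m : Γ(Omega.conormal i, U)) : dR i d₁ U (Thick.μ i U m) = φ.app U m := by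
  let V := Thick.img i U
  let m' := (Omega.conormal i).presheaf.map (homOfLE (Thick.preimage_img i U).le).op m
  let n := (inv (Thick.unitHom i)).app V m'
  have h1 : conormalSect i V n = m' := congr($(IsIso.inv_hom_id (Thick.unitHom i)).app V m')
  have h2 := hφ V n
  rw [h1] at h2
  rw [dR_def]
  refine (congrArg ((E i Ω₁).presheaf.map (homOfLE (Thick.preimage_img i U).ge).op) h2.symm).trans ?_
  refine (congr($(φ.mapPresheaf.naturality (homOfLE (Thick.preimage_img i U).ge).op) m')).symm.trans ?_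
  exact congrArg (φ.app U) ((Thick.res_res _ _ _ _).trans (Thick.res_self _ _ _))

include hφ in
theorem pair_injective [hm : Mono φ] (U : D.Opens) {r r' : Thick.R i U}
    (h1 : Thick.red i U r = Thick.red i U r') (h2 : dR i d₁ U r = dR i d₁ U r') : r = r' := by
  obtain ⟨m, hm'⟩ := Thick.exists_μ i U (r - r') (by rw [map_sub, h1, sub_self])
  have h : φ.app U m = 0 := by rw [← dR_μ i hφ, hm', map_sub, h2, sub_self]
  have hm0 : m = 0 := Groth.Agent.Lib.PushClosed.Torsion.injective_app_of_mono φ U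
    (h.trans (map_zero (φ.app U).hom).symm)
  rw [← sub_eq_zero, ← hm', hm0, map_zero]

variable {pD : D ⟶ S} {Ω₂ : D.Modules} {d₂ : Der pD Ω₂} {c : E i Ω₁ ⟶ Ω₂} (hc : IsDiffCompat i d₁ d₂ c)

include hc in
lemma c_dR (U : D.Opens) (r : Thick.R i U) : c.app U (dR i d₁ U r) = d₂.app U (Thick.red i U r) := by
  rw [dR_def]
  refine (congr($(c.mapPresheaf.naturality (homOfLE (Thick.preimage_img i U).ge).op) _)).trans ?_
  show Ω₂.presheaf.map _ (c.app _ (pullSect i Ω₁ _ (d₁.app _ r))) = _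
  rw [hc, ← der_app_map]
  refine congrArg (d₂.app U) ?_
  show (i.app _ ≫ D.presheaf.map _).hom r = _
  rw [Scheme.Hom.app_eq_appLE, Scheme.Hom.appLE_map]
  rfl

include hφ hc in
theorem pair_surjective {hw : φ ≫ c = 0} (hS : (ShortComplex.mk φ c hw).ShortExact) (U : D.Opens)
    (b : Γ(D, U)) (ω : Γ(E i Ω₁, U)) (h : c.app U ω = d₂.app U b) :
    ∃ r : Thick.R i U, Thick.red i U r = b ∧ dR i d₁ U r = ω := by
  classical
  haveI : Mono φ := hS.mono_f
  haveI := hsq.isClosedImmersion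
  let ι := {W : C.affineOpens // W.1 ≤ Thick.img i U}
  let U' : ι → D.Opens := fun W => i ⁻¹ᵁ W.1.1
  have hle : ∀ W, U' W ≤ U := fun W => (i.preimage_mono W.2).trans (Thick.preimage_img i U).le
  have hcov : U ≤ iSup U' := fun y hy => by
    obtain ⟨W, hW, hyW, hWV⟩ := Opens.isBasis_iff_nbhd.mp C.isBasis_affineOpens
      (show i y ∈ Thick.img i U from (Thick.apply_mem_img i).2 hy)
    exact Opens.mem_iSup.2 ⟨⟨⟨W, hW⟩, hWV⟩, hyW⟩
  have loc : ∀ W : ι, ∃ r : Thick.R i (U' W),
      Thick.red i (U' W) r = (D.presheaf.map (homOfLE (hle W)).op).hom b ∧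
      dR i d₁ (U' W) r = (E i Ω₁).presheaf.map (homOfLE (hle W)).op ω := by
    intro W
    have hW : IsAffineOpen (Thick.img i (U' W)) := by rw [Thick.img_preimage]; exact W.1.2
    obtain ⟨r₀, hr₀⟩ : ∃ r₀, Thick.red i (U' W) r₀ = (D.presheaf.map (homOfLE (hle W)).op).hom b := by
      obtain ⟨r₀, hr₀⟩ := i.app_surjective (Thick.img i (U' W)) hW
        ((D.presheaf.map (homOfLE (Thick.preimage_img i (U' W)).le).op).hom
          ((D.presheaf.map (homOfLE (hle W)).op).hom b))
      refine ⟨r₀, ?_⟩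
      show (D.presheaf.map _).hom ((i.app _).hom r₀) = _
      rw [hr₀]
      simp only [← CommRingCat.comp_apply, ← Functor.map_comp]
      rfl
    have hk : c.app (U' W) ((E i Ω₁).presheaf.map (homOfLE (hle W)).op ω - dR i d₁ (U' W) r₀) = 0 := by
      rw [map_sub, c_dR i hc, hr₀, sub_eq_zero]
      refine (congr($(c.mapPresheaf.naturality (homOfLE (hle W)).op) ω)).trans ?_
      refine (congrArg (Ω₂.presheaf.map (homOfLE (hle W)).op) h).trans ?_
      exact (der_app_map d₂ (hle W) b).symm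
    obtain ⟨m, hm⟩ := Groth.Agent.Lib.CohDelta.FTLift.exists_app_eq hS (U' W) _ hk
    refine ⟨r₀ + Thick.μ i _ m, by rw [map_add, Thick.red_μ, add_zero, hr₀], ?_⟩
    rw [map_add, dR_μ i hφ]
    exact (congrArg (dR i d₁ (U' W) r₀ + ·) hm).trans (add_sub_cancel _ _)
  choose r hr₁ hr₂ using loc
  obtain ⟨R₀, hR₀, -⟩ := C.sheaf.existsUnique_gluing' (fun W : ι => Thick.img i (U' W)) (Thick.img i U)
    (fun W => homOfLE (Thick.img_mono i (hle W))) (fun y hy => by
      obtain ⟨W, hW⟩ := Opens.mem_iSup.1 (hcov hy)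
      exact Opens.mem_iSup.2 ⟨W, hW⟩) r (fun W W' => by
      have e : Thick.rres i (inf_le_left : U' W ⊓ U' W' ≤ U' W) (r W) =
          Thick.rres i (inf_le_right : U' W ⊓ U' W' ≤ U' W') (r W') :=
        pair_injective i hφ _ (by
          rw [Thick.red_rres, Thick.red_rres, hr₁, hr₁]
          simp only [← CommRingCat.comp_apply, ← Functor.map_comp]; rfl) (by
          rw [dR_res, dR_res, hr₂, hr₂]
          exact (Thick.res_res _ _ _ _).trans (Thick.res_res _ _ _ _).symm)
      exact e)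
  have hR : ∀ W, Thick.rres i (hle W) R₀ = r W := hR₀
  refine ⟨R₀, ?_, ?_⟩
  · refine D.sheaf.eq_of_locally_eq' U' U (fun W => homOfLE (hle W)) hcov _ _ fun W => ?_
    show (D.presheaf.map _).hom (Thick.red i U R₀) = (D.presheaf.map _).hom b
    rw [← Thick.red_rres i (hle W), hR, hr₁]
  · refine TopCat.Sheaf.eq_of_locally_eq'
      (⟨(E i Ω₁).presheaf, (E i Ω₁).isSheaf⟩ : TopCat.Sheaf Ab D.toTopCat) U' U
      (fun W => homOfLE (hle W)) hcov _ _ fun W => ?_
    show (E i Ω₁).presheaf.map _ (dR i d₁ U R₀) = (E i Ω₁).presheaf.map _ ω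
    rw [← dR_res i d₁ (hle W), hR, hr₂]

end Groth.Agent.RB92
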